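import Mathlib.AlgebraicGeometry.Morphisms.Finite
import Mathlib.AlgebraicGeometry.Morphisms.QuasiFinite
import Mathlib.AlgebraicGeometry.Morphisms.UniversallyClosed
import Mathlib.RingTheory.IntegralClosure.IntegralRestrict
import Mathlib.FieldTheory.IsAlgClosed.AlgebraicClosure
import Mathlib.Algebra.Polynomial.Div

/-!
A norm for finite morphisms to the spectrum of a domain in which every monic polynomial has a root.
-/

set_option autoImplicit false
set_option linter.style.haveILetI false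
set_option backward.isDefEq.respectTransparency.types false
set_option backward.isDefEq.respectTransparency false

universe u

open CategoryTheory AlgebraicGeometry TopologicalSpace Polynomial

namespace Groth.L24.DimOne

/-- Every monic polynomial of positive degree has a root. -/
def HasRoots (A : Type u) [CommRing A] : Prop :=
  ∀ P : A[X], P.Monic → 0 < P.natDegree → ∃ a, P.IsRoot a

theorem exists_algebraMap_eq {A C : Type u} [CommRing A] [Nontrivial A] [CommRing C] [IsDomain C] (φ : A →+* C)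
    (hA : HasRoots A) : ∀ (n : ℕ) (P : A[X]), P.natDegree = n → P.Monic → ∀ x, P.eval₂ φ x = 0 → ∃ a, φ a = x := by
  intro n
  induction n with
  | zero =>
    intro P hdeg hP x hx
    rw [Monic.natDegree_eq_zero hP |>.1 hdeg] at hx
    simp at hx
  | succ n ih =>
    intro P hdeg hP x hx
    obtain ⟨a, ha⟩ := hA P hP (by omega)
    obtain ⟨Q, hQ⟩ := dvd_iff_isRoot.2 ha
    have hQm : Q.Monic := (monic_X_sub_C a).of_mul_monic_left (hQ ▸ hP)
    rw [hQ, eval₂_mul, mul_eq_zero] at hx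
    rcases hx with hx | hx
    · exact ⟨a, by rw [eval₂_sub, eval₂_X, eval₂_C, sub_eq_zero] at hx; exact hx.symm⟩
    · refine ih Q ?_ hQm x hx
      rw [hQ, (monic_X_sub_C a).natDegree_mul hQm, natDegree_X_sub_C] at hdeg
      omega

theorem hasRoots_integralClosure (D L : Type u) [CommRing D] [Field L] [Algebra D L] [IsAlgClosed L] :
    HasRoots (integralClosure D L) := by
  intro P hP hdeg
  let Q := P.map (integralClosure D L).val.toRingHom
  have hQ : Q.Monic := hP.map _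
  obtain ⟨r, hr⟩ := IsAlgClosed.exists_root Q (by
    rw [degree_eq_natDegree hQ.ne_zero, hP.natDegree_map]
    exact_mod_cast hdeg.ne')
  have hr' : IsIntegral (integralClosure D L) r := ⟨P, hP, by rw [IsRoot.def, eval_map] at hr; exact hr⟩
  refine ⟨⟨r, isIntegral_trans r hr'⟩, ?_⟩
  rw [IsRoot.def]
  apply Subtype.val_injective
  show (integralClosure D L).val.toRingHom (P.eval _) = (integralClosure D L).val.toRingHom 0
  rw [← eval_map_apply, map_zero]
  exact hr

/-- The algebraic form of the norm. -/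
theorem exists_norm_prime {A B : Type u} [CommRing A] [IsDomain A] [CommRing B] (φ : A →+* B) (hφ : φ.Finite)
    (hA : HasRoots A) (b : B)
    (h : ∀ q : PrimeSpectrum A, (∀ Q : PrimeSpectrum B, PrimeSpectrum.comap φ Q = q → b ∉ Q.asIdeal) ∨
      ∀ Q : PrimeSpectrum B, PrimeSpectrum.comap φ Q = q → ∃ Q₀ : PrimeSpectrum B,
        Q₀.asIdeal ≤ Q.asIdeal ∧ Q₀.asIdeal.comap φ = ⊥) :
    ∃ g : A, ∀ q : PrimeSpectrum A, g ∉ q.asIdeal ↔ ∀ Q : PrimeSpectrum B, PrimeSpectrum.comap φ Q = q → b ∉ Q.asIdeal := by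
  classical
  haveI : IsFinite (Spec.map (CommRingCat.ofHom φ)) := (IsFinite.SpecMap_iff _).2 hφ
  let η : Spec (CommRingCat.of A) := (⟨⊥, Ideal.isPrime_bot⟩ : PrimeSpectrum A)
  let S : Set (PrimeSpectrum B) := {Q | Q.asIdeal.comap φ = ⊥}
  have hS : S.Finite := ((Spec.map (CommRingCat.ofHom φ)).finite_preimage_singleton η).subset
    fun Q hQ => PrimeSpectrum.ext hQ
  haveI := hS.to_subtype
  haveI := Fintype.ofFinite S
  have hsurj : ∀ Q : S, ∃ a : A, φ a - b ∈ Q.1.asIdeal := fun Q => by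
    obtain ⟨P, hP, hx⟩ := hφ.to_isIntegral b
    obtain ⟨a, ha⟩ := exists_algebraMap_eq ((Ideal.Quotient.mk Q.1.asIdeal).comp φ) hA P.natDegree P rfl hP
      (Ideal.Quotient.mk _ b) (by rw [← Polynomial.hom_eval₂, hx, map_zero])
    exact ⟨a, by rw [← Ideal.Quotient.eq_zero_iff_mem, map_sub, sub_eq_zero]; exact ha⟩
  choose a ha using hsurj
  refine ⟨∏ Q : S, a Q, fun q => ⟨fun hg Q hQ hb => ?_, fun hall hg => ?_⟩⟩
  · rcases h q with h1 | h1
    · exact h1 Q hQ hb
    · obtain ⟨Q₀, hle, h0⟩ := h1 Q hQ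
      refine hg (Ideal.prod_mem _ (Finset.mem_univ ⟨Q₀, h0⟩) ?_)
      rw [← hQ]
      show φ (a ⟨Q₀, h0⟩) ∈ Q.asIdeal
      have := Q.asIdeal.add_mem (hle (ha ⟨Q₀, h0⟩)) hb
      simpa using this
  · obtain ⟨Q, -, hQ⟩ := q.isPrime.prod_mem_iff.1 hg
    obtain ⟨Q', hle, hcomap⟩ : ∃ Q' : PrimeSpectrum B, Q.1.asIdeal ≤ Q'.asIdeal ∧ PrimeSpectrum.comap φ Q' = q := by
      letI := φ.toAlgebra
      haveI : Algebra.IsIntegral A B := ⟨hφ.to_isIntegral⟩
      obtain ⟨Q', hle, hp, hc⟩ := Ideal.exists_ideal_over_prime_of_isIntegral q.asIdeal Q.1.asIdeal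
        (show Q.1.asIdeal.comap φ ≤ q.asIdeal from Q.2.trans_le bot_le)
      exact ⟨⟨Q', hp⟩, hle, PrimeSpectrum.ext hc⟩
    refine hall Q' hcomap ?_
    have h1 : φ (a Q) ∈ Q'.asIdeal := show a Q ∈ (PrimeSpectrum.comap φ Q').asIdeal from hcomap ▸ hQ
    simpa using Q'.asIdeal.sub_mem h1 (hle (ha Q))

/-- The scheme form of the norm. -/
theorem exists_norm_basicOpen {A : Type u} [CommRing A] [IsDomain A] (hA : HasRoots A) {P : Scheme.{u}}
    (p : P ⟶ Spec (CommRingCat.of A)) [IsFinite p] (b : Γ(P, ⊤))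
    (h : ∀ y : Spec (CommRingCat.of A), (∀ x : P, p x = y → x ∈ P.basicOpen b) ∨
      ∀ x : P, p x = y → ∃ x₀ : P, x₀ ⤳ x ∧ p x₀ = (⟨⊥, Ideal.isPrime_bot⟩ : PrimeSpectrum A)) :
    ∃ g : A, ∀ y : Spec (CommRingCat.of A),
      y ∈ PrimeSpectrum.basicOpen g ↔ ∀ x : P, p x = y → x ∈ P.basicOpen b := by
  haveI : IsAffine P := isAffine_of_isAffineHom p
  obtain ⟨φ, hφ⟩ := Spec.map_surjective (P.isoSpec.inv ≫ p)
  have hfin : φ.hom.Finite := (IsFinite.SpecMap_iff _).1 (hφ ▸ inferInstance)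
  let e := P.isoSpec.hom
  have he : Function.Surjective e := e.homeomorph.surjective
  have hp : ∀ x, p x = PrimeSpectrum.comap φ.hom (e x) := fun x => by
    show p x = Spec.map φ (e x)
    rw [← Scheme.Hom.comp_apply, hφ, Iso.hom_inv_id_assoc]
  have hb : ∀ x, x ∈ P.basicOpen b ↔ b ∉ (e x).asIdeal := fun x => by
    rw [← Scheme.toSpecΓ_preimage_basicOpen, ← Scheme.isoSpec_hom]; rfl
  obtain ⟨g, hg⟩ := exists_norm_prime φ.hom hfin hA b fun q => by
    rcases h q with h1 | h1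
    · exact Or.inl fun Q hQ => by
        obtain ⟨x, rfl⟩ := he Q
        exact (hb x).1 (h1 x ((hp x).trans hQ))
    · refine Or.inr fun Q hQ => ?_
      obtain ⟨x, rfl⟩ := he Q
      obtain ⟨x₀, hs, h0⟩ := h1 x ((hp x).trans hQ)
      exact ⟨e x₀, (PrimeSpectrum.le_iff_specializes _ _).2 (hs.map e.continuous),
        congrArg PrimeSpectrum.asIdeal ((hp x₀).symm.trans h0)⟩
  refine ⟨g, fun y => Iff.trans (hg y) ⟨fun H x hx => (hb x).2 (H _ ((hp x).symm.trans hx)), fun H Q hQ => ?_⟩⟩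
  obtain ⟨x, rfl⟩ := he Q
  exact (hb x).1 (H x ((hp x).trans hQ))

end Groth.L24.DimOne
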