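import Groth.Agent.L24.DimOne.AffineFinset
import Groth.Agent.L24.DimOne.Norm
import Groth.Agent.L20.Chevalley.Reduction
import Groth.Agent.L02.Grpd.GenericInvariant
import Groth.Agent.L24.Quot.Invariant
import Mathlib.AlgebraicGeometry.Morphisms.UniversallyOpen

/-!
Invariant affine opens around orbits of points with local rings of dimension at most one.
-/

set_option autoImplicit false
set_option linter.style.haveILetI false
set_option backward.isDefEq.respectTransparency.types false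
set_option backward.isDefEq.respectTransparency false

universe u

open CategoryTheory CategoryTheory.Limits AlgebraicGeometry TopologicalSpace
open Groth.Agent.L24.Quot (Rel rel_symm rel_trans rel_refl core mem_core preimage_eq_of_saturated)

noncomputable section

namespace Groth.L24.DimOne

variable {S : Scheme.{u}} (G : Grpd.GroupoidScheme S)

/-- The flat locus of the source over the reduced closed subscheme on `Z`. -/
theorem exists_flat_open [IsFinite G.s] [LocallyOfFinitePresentation G.s] (Z : Closeds G.U) :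
    ∃ F : G.U.Opens, (∀ x ∈ Z, (∀ y ∈ Z, y ⤳ x → y = x) → x ∈ F) ∧
      Flat (pullback.snd G.s (((Scheme.IdealSheafData.vanishingIdeal Z).subschemeι ⁻¹ᵁ F).ι ≫
        (Scheme.IdealSheafData.vanishingIdeal Z).subschemeι)) := by
  let J := Scheme.IdealSheafData.vanishingIdeal Z
  haveI : IsReduced J.subscheme := Groth.L18.isReduced_vanishingIdeal_subscheme _
  let ι := J.subschemeι
  have hrange : Set.range ι = (Z : Set G.U) := by
    rw [J.range_subschemeι, Scheme.IdealSheafData.coe_support_vanishingIdeal]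
  let q : pullback G.s ι ⟶ J.subscheme := pullback.snd G.s ι
  let F : G.U.Opens := ⟨(ι '' (q '' {z | (q.stalkMap z).hom.Flat}ᶜ))ᶜ,
    (ι.isClosedMap _ (q.isClosedMap _ (Groth.L20.isOpen_flat_stalkMap q).isClosed_compl)).isOpen_compl⟩
  refine ⟨F, fun x hxZ hmax => ?_, ?_⟩
  · rintro ⟨w, ⟨z, hz, rfl⟩, rfl⟩
    apply hz
    have hgen : closure {q z} ∈ irreducibleComponents J.subscheme := by
      refine ⟨isIrreducible_singleton.closure, fun W hW hle => ?_⟩
      obtain ⟨η, hη⟩ := QuasiSober.sober hW.closure isClosed_closure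
      have hsp : η ⤳ q z := hη.specializes (subset_closure (hle (subset_closure rfl)))
      have : η = q z := ι.isClosedEmbedding.injective
        (hmax _ (hrange.le ⟨η, rfl⟩) (hsp.map ι.continuous))
      subst this
      exact (subset_closure : W ⊆ closure W).trans hη.symm.subset
    letI := (isField_stalk_of_closure_mem_irreducibleComponents _ _ hgen).toField
    show (q.stalkMap z).hom.Flat
    algebraize [(q.stalkMap z).hom]
    exact Module.Flat.of_free
  · haveI : Flat (q ∣_ (ι ⁻¹ᵁ F)) := by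
      refine (Flat.iff_flat_stalkMap _).mpr fun z => ?_
      refine (RingHom.Flat.respectsIso.arrow_mk_iso_iff (morphismRestrictStalkMap q (ι ⁻¹ᵁ F) z)).mpr ?_
      by_contra hz
      exact (show ι (q z.1) ∈ F from z.2) ⟨q z.1, ⟨z.1, hz, rfl⟩, rfl⟩
    have h := (isPullback_morphismRestrict q (ι ⁻¹ᵁ F)).flip.paste_horiz (IsPullback.of_hasPullback G.s ι)
    rw [← h.isoPullback_inv_snd]
    infer_instance

/-- Generalisations lift along the source over a reduced scheme mapping into the flat locus. -/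
theorem exists_generization (Z : Closeds G.U) (hZ : ∀ x, x ∈ Z) (F : G.U.Opens)
    [Flat (pullback.snd G.s (((Scheme.IdealSheafData.vanishingIdeal Z).subschemeι ⁻¹ᵁ F).ι ≫
        (Scheme.IdealSheafData.vanishingIdeal Z).subschemeι))]
    {T : Scheme.{u}} [IsReduced T] (π : T ⟶ G.U) [QuasiCompact π] {x : (pullback G.s π : Scheme.{u})}
    (hx : π (pullback.snd G.s π x) ∈ F) {η : T} (hη : η ⤳ pullback.snd G.s π x) :
    ∃ x₀ : (pullback G.s π : Scheme.{u}), x₀ ⤳ x ∧ pullback.snd G.s π x₀ = η := by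
  let J := Scheme.IdealSheafData.vanishingIdeal Z
  have hle : J ≤ π.ker := by
    rw [← Scheme.IdealSheafData.map_bot, ← Scheme.nilradical_eq_bot, ← Scheme.IdealSheafData.vanishingIdeal_top,
      Scheme.IdealSheafData.map_vanishingIdeal]
    exact Scheme.IdealSheafData.vanishingIdeal_antimono fun y _ => hZ y
  let π' : T ⟶ J.subscheme := IsClosedImmersion.lift J.subschemeι π (by rwa [J.ker_subschemeι])
  have hπ' : π' ≫ J.subschemeι = π := IsClosedImmersion.lift_fac _ _ _
  let O := π ⁻¹ᵁ F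
  let F' := J.subschemeι ⁻¹ᵁ F
  have hO : O = π' ⁻¹ᵁ F' := by
    show π ⁻¹ᵁ F = π' ⁻¹ᵁ (J.subschemeι ⁻¹ᵁ F)
    rw [← Scheme.Hom.comp_preimage, hπ']
  let k : O.toScheme ⟶ F'.toScheme := π'.resLE F' O hO.le
  have hk : k ≫ F'.ι ≫ J.subschemeι = O.ι ≫ π := by
    rw [Scheme.Hom.resLE_comp_ι_assoc, hπ']
  haveI h1 : Flat (pullback.snd G.s (O.ι ≫ π)) := by
    rw [← hk, ← MorphismProperty.cancel_left_of_respectsIso @Flat (pullbackLeftPullbackSndIso G.s (F'.ι ≫ J.subschemeι) k).hom,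
      pullbackLeftPullbackSndIso_hom_snd]
    exact MorphismProperty.pullback_snd _ _ inferInstance
  let p := pullback.snd G.s π
  haveI : Flat (p ∣_ O) := by
    have h := (isPullback_morphismRestrict p O).flip.paste_horiz (IsPullback.of_hasPullback G.s π)
    rw [← h.isoPullback_hom_snd, MorphismProperty.cancel_left_of_respectsIso @Flat]
    exact h1
  have hηO : η ∈ O := hη.mem_open O.isOpen hx
  have hsp : (⟨η, hηO⟩ : O.toScheme) ⤳ (p ∣_ O) ⟨x, hx⟩ := by
    apply O.ι.isOpenEmbedding.isInducing.specializes_iff.1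
    show η ⤳ ((p ∣_ O) ≫ O.ι) ⟨x, hx⟩
    rw [morphismRestrict_ι]
    exact hη
  obtain ⟨x₀, hs, h0⟩ := Flat.generalizingMap (p ∣_ O) hsp
  refine ⟨(p ⁻¹ᵁ O).ι x₀, hs.map (p ⁻¹ᵁ O).ι.continuous, ?_⟩
  show ((p ⁻¹ᵁ O).ι ≫ p) x₀ = η
  rw [← morphismRestrict_ι, Scheme.Hom.comp_apply, h0]
  rfl

theorem isIntegral_pi {A : Type u} [CommRing A] {κ : Type u} [Finite κ] (C : κ → Type u) [∀ i, CommRing (C i)]
    [∀ i, Algebra A (C i)] [∀ i, Algebra.IsIntegral A (C i)] : Algebra.IsIntegral A (∀ i, C i) := by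
  classical
  haveI := Fintype.ofFinite κ
  refine ⟨fun x => ?_⟩
  choose P hP hx using fun i => Algebra.IsIntegral.isIntegral (R := A) (x i)
  refine ⟨∏ i, P i, Polynomial.monic_prod_of_monic _ _ fun i _ => hP i, funext fun i => ?_⟩
  show (Pi.evalRingHom C i) (Polynomial.eval₂ (algebraMap A (∀ i, C i)) x (∏ i, P i)) = 0
  rw [Polynomial.hom_eval₂, Polynomial.eval₂_finsetProd]
  exact Finset.prod_eq_zero (Finset.mem_univ i) (hx i)

variable [IsFinite G.s] [IsFinite G.t]

omit [IsFinite G.s] in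
theorem mem_core_iff_source {O : G.U.Opens} {z : G.U} :
    z ∈ core G O ↔ ∀ r : G.R, G.s r = z → G.t r ∈ O :=
  ⟨fun h r hr => (mem_core G).1 h _ ⟨r, hr, rfl⟩, fun h => (mem_core G).2 fun _ ⟨r, hr, hr'⟩ => hr' ▸ h r hr⟩

omit [IsFinite G.s] in
theorem core_invariant' (O : G.U.Opens) : G.s ⁻¹ᵁ core G O = G.t ⁻¹ᵁ core G O :=
  preimage_eq_of_saturated G fun _ _ h hx => (mem_core G).2 fun z hz => (mem_core G).1 hx z (rel_trans G h hz)

omit [IsFinite G.s] in
theorem core_le' (O : G.U.Opens) : core G O ≤ O := fun x hx => (mem_core G).1 hx x (rel_refl G x)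

/-- The largest invariant open in a basic open is affine as soon as it contains the non-flat part. -/
theorem isAffineOpen_core [IsLocallyNoetherian G.U] [G.U.IsSeparated] {V : G.U.Opens} (hV : IsAffineOpen V)
    (f : Γ(G.U, V)) (hfV : ∀ r : G.R, G.s r ∈ G.U.basicOpen f → G.t r ∈ V) (F : G.U.Opens)
    [Flat (pullback.snd G.s (((Scheme.IdealSheafData.vanishingIdeal (⊤ : Closeds G.U)).subschemeι ⁻¹ᵁ F).ι ≫
        (Scheme.IdealSheafData.vanishingIdeal (⊤ : Closeds G.U)).subschemeι))]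
    (hbad : ∀ z ∈ G.U.basicOpen f, z ∉ F → z ∈ core G (G.U.basicOpen f)) :
    IsAffineOpen (core G (G.U.basicOpen f)) := by
  classical
  set Ω := G.U.basicOpen f with hΩdef
  have hΩ : IsAffineOpen Ω := hV.basicOpen f
  set W := core G Ω
  let A := Γ(G.U, Ω)
  haveI : IsNoetherianRing A := IsLocallyNoetherian.component_noetherian ⟨Ω, hΩ⟩
  let κ := minimalPrimes A
  haveI : Finite κ := (minimalPrimes.finite_of_isNoetherianRing A).to_subtype
  haveI : ∀ p : κ, p.1.IsPrime := fun p => (Ideal.minimalPrimes_isPrime p.2)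
  let D : κ → Type u := fun p => A ⧸ p.1
  let L : κ → Type u := fun p => AlgebraicClosure (FractionRing (D p))
  let C : κ → Type u := fun p => integralClosure (D p) (L p)
  haveI hint : ∀ p, Algebra.IsIntegral (D p) (C p) := fun p => inferInstance
  letI : ∀ p, Algebra A (C p) := fun p => ((algebraMap (D p) (C p)).comp (Ideal.Quotient.mk p.1)).toAlgebra
  haveI : ∀ p : κ, Algebra.IsIntegral A (C p) := fun p =>
    ⟨fun x => RingHom.IsIntegral.trans (Ideal.Quotient.mk p.1) (algebraMap (D p) (C p))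
      (RingHom.IsIntegral.of_finite (RingHom.Finite.of_surjective _ Ideal.Quotient.mk_surjective))
      (algebraMap_isIntegral_iff.2 (hint p)) x⟩
  let φ : CommRingCat.of A ⟶ CommRingCat.of (∀ p, C p) := CommRingCat.ofHom (algebraMap A (∀ p, C p))
  haveI hφ : IsIntegralHom (Spec.map φ) := (IsIntegralHom.SpecMap_iff).2
    (algebraMap_isIntegral_iff.2 (isIntegral_pi C))
  have hsurj : Function.Surjective (Spec.map φ) := by
    intro q
    obtain ⟨p, hp, hpq⟩ := Ideal.exists_minimalPrimes_le (bot_le : (⊥ : Ideal A) ≤ q.asIdeal)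
    let p' : κ := ⟨p, hp⟩
    have hL : Function.Injective (algebraMap (D p') (L p')) := by
      rw [IsScalarTower.algebraMap_eq (D p') (FractionRing (D p')) (L p')]
      exact (algebraMap (FractionRing (D p')) (L p')).injective.comp (IsFractionRing.injective (D p') (FractionRing (D p')))
    haveI : FaithfulSMul (D p') (C p') := (faithfulSMul_iff_algebraMap_injective _ _).2
      fun a b h => hL (congrArg Subtype.val h)
    let q' : PrimeSpectrum (D p') := ⟨q.asIdeal.map (Ideal.Quotient.mk p), Ideal.map_isPrime_of_surjective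
      Ideal.Quotient.mk_surjective (by rw [Ideal.mk_ker]; exact hpq)⟩
    obtain ⟨Q, hQ⟩ := Algebra.IsIntegral.comap_surjective (R := D p') (S := C p') q'
    refine ⟨PrimeSpectrum.comap (Pi.evalRingHom C p') Q, PrimeSpectrum.ext ?_⟩
    show ((Q.asIdeal.comap (algebraMap (D p') (C p'))).comap (Ideal.Quotient.mk p)) = q.asIdeal
    rw [show Q.asIdeal.comap (algebraMap (D p') (C p')) = q'.asIdeal from congrArg PrimeSpectrum.asIdeal hQ]
    exact (Ideal.comap_map_of_surjective _ Ideal.Quotient.mk_surjective _).trans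
      (sup_eq_left.2 (by rw [← RingHom.ker_eq_comap_bot, Ideal.mk_ker]; exact hpq))
  let π : Spec (CommRingCat.of (∀ p, C p)) ⟶ G.U := Spec.map φ ≫ hΩ.fromSpec
  have hπΩ : ∀ y, π y ∈ Ω := fun y => hΩ.range_fromSpec.le ⟨Spec.map φ y, rfl⟩
  -- the norm on each component
  have key : ∀ p : κ, ∃ g : C p, ∀ y : Spec (CommRingCat.of (C p)),
      y ∈ PrimeSpectrum.basicOpen g ↔ π (Spec.map (CommRingCat.ofHom (Pi.evalRingHom C p)) y) ∈ W := by
    intro p
    haveI : IsDomain (C p) := inferInstanceAs (IsDomain (integralClosure (D p) (L p)))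
    let πp : Spec (CommRingCat.of (C p)) ⟶ G.U := Spec.map (CommRingCat.ofHom (Pi.evalRingHom C p)) ≫ π
    let pr := pullback.snd G.s πp
    haveI : IsFinite pr := MorphismProperty.pullback_snd _ _ inferInstance
    let τ := pullback.fst G.s πp ≫ G.t
    have hτ : (⊤ : (pullback G.s πp).Opens) ≤ τ ⁻¹ᵁ V := fun x _ => hfV _ (by
      show (pullback.fst G.s πp ≫ G.s) x ∈ Ω
      rw [pullback.condition]
      exact hπΩ _)
    let b : Γ(pullback G.s πp, ⊤) := τ.appLE V ⊤ hτ f
    have hb : ∀ x, x ∈ (pullback G.s πp).basicOpen b ↔ τ x ∈ Ω := fun x => by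
      rw [Scheme.basicOpen_appLE]
      exact ⟨fun h => h.2, fun h => ⟨trivial, h⟩⟩
    have hW : ∀ y, (∀ x, pr x = y → x ∈ (pullback G.s πp).basicOpen b) ↔ πp y ∈ W := by
      intro y
      rw [mem_core_iff_source]
      refine ⟨fun h r hr => ?_, fun h x hx => (hb x).2 (h _ ?_)⟩
      · obtain ⟨x, hx1, hx2⟩ := Scheme.Pullback.exists_preimage_pullback (f := G.s) (g := πp) r y hr
        have := (hb x).1 (h x hx2)
        rw [Scheme.Hom.comp_apply, hx1] at this
        exact this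
      · rw [← hx]
        show (pullback.fst G.s πp ≫ G.s) x = (pullback.snd G.s πp ≫ πp) x
        rw [pullback.condition]
    obtain ⟨g, hg⟩ := exists_norm_basicOpen (hasRoots_integralClosure (D p) (L p)) pr b fun y => by
      by_cases hF : πp y ∈ F
      · refine Or.inr fun x hx => ?_
        refine exists_generization G ⊤ (fun _ => trivial) F πp (hx.symm ▸ hF) ?_
        rw [hx]
        exact (PrimeSpectrum.le_iff_specializes _ y).1 bot_le
      · exact Or.inl ((hW y).2 (hbad _ (hπΩ _) hF))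
    exact ⟨g, fun y => (hg y).trans (hW y)⟩
  choose g hg using key
  have hpre : π ⁻¹ᵁ W = (PrimeSpectrum.basicOpen (g : ∀ p, C p) : (Spec (CommRingCat.of (∀ p, C p))).Opens) := by
    ext y
    obtain ⟨p, q, rfl⟩ := PrimeSpectrum.exists_comap_evalRingHom_eq y
    exact (hg p q).symm
  have haff : IsAffineOpen (π ⁻¹ᵁ W) := by
    rw [hpre]
    exact IsAffineOpen.Spec_basicOpen (R := CommRingCat.of (∀ p, C p)) _
  haveI : IsAffine (π ⁻¹ᵁ W).toScheme := haff
  let W₀ := hΩ.fromSpec ⁻¹ᵁ W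
  haveI : IsAffine ((Spec.map φ) ⁻¹ᵁ W₀).toScheme := by
    have e : (Spec.map φ) ⁻¹ᵁ W₀ = π ⁻¹ᵁ W := rfl
    rw [e]; infer_instance
  haveI : Surjective ((Spec.map φ) ∣_ W₀) := ⟨fun z => by
    obtain ⟨y, hy⟩ := hsurj z.1
    exact ⟨⟨y, show Spec.map φ y ∈ W₀ from hy.symm ▸ z.2⟩, Subtype.ext ((morphismRestrict_base_coe _ _ _).trans hy)⟩⟩
  haveI : IsIntegralHom ((Spec.map φ) ∣_ W₀) := IsZariskiLocalAtTarget.restrict hφ W₀
  have hW₀ : IsAffineOpen W₀ :=
    Groth.L20.Chevalley.isAffine_of_surjective_universallyClosed ((Spec.map φ) ∣_ W₀)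
  have := hW₀.image_of_isOpenImmersion hΩ.fromSpec
  rwa [Scheme.Hom.image_preimage_eq_opensRange_inf, hΩ.opensRange_fromSpec,
    inf_eq_right.2 (core_le' G Ω)] at this

omit [IsFinite G.t] in
theorem eq_of_specializes_of_fibre {r r' : G.R} (h : r ⤳ r') (he : G.s r = G.s r') : r = r' := by
  have hd := (G.s.isDiscrete_preimage_singleton (G.s r')).to_subtype
  have h' : (⟨r, he⟩ : G.s ⁻¹' {G.s r'}) ⤳ ⟨r', rfl⟩ := Topology.IsInducing.subtypeVal.specializes_iff.1 h
  exact congrArg Subtype.val h'.eq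

/-- A function on an affine open that is invertible at finitely many given points and small elsewhere. -/
theorem exists_basicOpen_finite {X : Scheme.{u}} {V : X.Opens} (hV : IsAffineOpen V) {T : Set X} (hT : T.Finite)
    (hne : T.Nonempty) (O : X.Opens) (hTV : T ⊆ V) (hTO : T ⊆ O) :
    ∃ f : Γ(X, V), T ⊆ X.basicOpen f ∧ X.basicOpen f ≤ O := by
  let Z : Set (PrimeSpectrum Γ(X, V)) := (hV.fromSpec ⁻¹' (O : Set X))ᶜ
  have hZc : IsClosed Z := (O.isOpen.preimage hV.fromSpec.continuous).isClosed_compl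
  let T' : Set (PrimeSpectrum Γ(X, V)) := hV.fromSpec ⁻¹' T
  have hT' : T'.Finite := hT.preimage hV.fromSpec.isOpenEmbedding.injective.injOn
  obtain ⟨t, ht⟩ := hne
  obtain ⟨q0, hq0⟩ : ∃ q, hV.fromSpec q = t := hV.range_fromSpec.ge (hTV ht)
  have hns : ¬ ((PrimeSpectrum.vanishingIdeal Z : Ideal Γ(X, V)) : Set Γ(X, V)) ⊆
      ⋃ q ∈ T', (q.asIdeal : Set Γ(X, V)) := by
    rw [Ideal.subset_union_prime_finite hT' q0 q0 fun q _ _ _ => q.isPrime]
    rintro ⟨q, hqT, hle⟩
    have h : q ∈ PrimeSpectrum.zeroLocus (PrimeSpectrum.vanishingIdeal Z : Set Γ(X, V)) := hle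
    rw [PrimeSpectrum.zeroLocus_vanishingIdeal_eq_closure, hZc.closure_eq] at h
    exact h (hTO hqT)
  obtain ⟨f, hfI, hf⟩ := Set.not_subset.1 hns
  refine ⟨f, fun y hy => ?_, fun x hx => ?_⟩
  · obtain ⟨q, rfl⟩ := hV.range_fromSpec.ge (hTV hy)
    exact (SetLike.ext_iff.1 (hV.fromSpec_preimage_basicOpen f) q).2 fun hfq => hf (Set.mem_biUnion (hy : q ∈ T') hfq)
  · obtain ⟨q, rfl⟩ := hV.range_fromSpec.ge (X.basicOpen_le f hx)
    by_contra hn
    exact (SetLike.ext_iff.1 (hV.fromSpec_preimage_basicOpen f) q).1 hx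
      ((PrimeSpectrum.mem_vanishingIdeal Z f).1 hfI q hn)

theorem main [IsLocallyNoetherian G.U] [G.U.IsSeparated] (u : G.U)
    (hdim : ∀ r : G.R, G.s r = u → ringKrullDim (G.U.presheaf.stalk (G.t r)) ≤ 1) :
    ∃ W : G.U.Opens, IsAffineOpen W ∧ u ∈ W ∧ G.s ⁻¹ᵁ W = G.t ⁻¹ᵁ W := by
  classical
  haveI : LocallyOfFinitePresentation G.s := LocallyOfFinitePresentation.iff_locallyOfFiniteType.mpr inferInstance
  let Orb : Set G.U := {y | Rel G u y}
  have hOfin : Orb.Finite := Groth.Agent.L24.Quot.finite_rel G u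
  have hOdim : ∀ y ∈ Orb, ringKrullDim (G.U.presheaf.stalk y) ≤ 1 := by
    rintro y ⟨r, hr, rfl⟩
    exact hdim r hr
  have hOne : Orb.Nonempty := ⟨u, rel_refl G u⟩
  have hOsat : ∀ {y z : G.U}, y ∈ Orb → Rel G y z → z ∈ Orb := fun hy hyz => rel_trans G hy hyz
  -- an affine open containing the orbit
  obtain ⟨V, hV, hOV⟩ : ∃ V : G.U.Opens, IsAffineOpen V ∧ Orb ⊆ V := by
    haveI := hOfin.to_subtype
    choose A hA hyA _ using fun y : Orb => TopologicalSpace.Opens.isBasis_iff_nbhd.1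
      G.U.isBasis_affineOpens (show y.1 ∈ (⊤ : G.U.Opens) from trivial)
    let U₀ : G.U.Opens := ⨆ y, A y
    haveI : CompactSpace U₀.toScheme := isCompact_iff_compactSpace.mp (by
      show IsCompact ((U₀ : G.U.Opens) : Set G.U)
      rw [Opens.coe_iSup]
      exact isCompact_iUnion fun y => (hA y).isCompact)
    haveI : IsNoetherian U₀.toScheme := {}
    haveI : U₀.toScheme.IsSeparated := ⟨by rw [← terminal.comp_from U₀.ι]; infer_instance⟩
    have hU₀ : ∀ y ∈ Orb, y ∈ U₀ := fun y hy => Opens.mem_iSup.2 ⟨⟨y, hy⟩, hyA ⟨y, hy⟩⟩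
    let Ps : Finset U₀ := (hOfin.preimage (Subtype.val_injective (p := (· ∈ U₀))).injOn).toFinset
    obtain ⟨V', hV', hP⟩ := exists_affine_finset (X := U₀.toScheme) Ps fun x hx => by
      rw [ringKrullDim_eq_of_ringEquiv (U₀.stalkIso x).commRingCatIsoToRingEquiv]
      exact hOdim _ ((Set.Finite.mem_toFinset (hOfin.preimage (Subtype.val_injective (p := (· ∈ U₀))).injOn)).1 hx)
    exact ⟨U₀.ι ''ᵁ V', hV'.image_of_isOpenImmersion U₀.ι,
      fun y hy => ⟨⟨y, hU₀ y hy⟩, hP ((Set.Finite.mem_toFinset _).2 hy), rfl⟩⟩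
  obtain ⟨F, hFgen, hFflat⟩ := exists_flat_open G (⊤ : Closeds G.U)
  haveI := hFflat
  let T : Closeds G.U := ⟨⇑G.t '' (⇑G.s ⁻¹' (F : Set G.U)ᶜ),
    G.t.isClosedMap _ (F.isOpen.isClosed_compl.preimage G.s.continuous)⟩
  have hTF : ∀ z : G.U, z ∉ F → z ∈ T := fun z hz =>
    ⟨G.e z, by show G.s (G.e z) ∉ F; rw [← Scheme.Hom.comp_apply, G.e_s]; exact hz,
      by rw [← Scheme.Hom.comp_apply, G.e_t]; rfl⟩
  have hTsat : ∀ {y z : G.U}, y ∈ T → Rel G y z → z ∈ T := by
    rintro y z ⟨r, hr, rfl⟩ h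
    obtain ⟨r', h1, h2⟩ := rel_trans G (⟨r, rfl, rfl⟩ : Rel G (G.s r) (G.t r)) h
    exact ⟨r', show G.s r' ∉ F from h1.symm ▸ hr, h2⟩
  -- it suffices to find a good basic open
  suffices hgood : ∃ f : Γ(G.U, V), Orb ⊆ G.U.basicOpen f ∧ G.U.basicOpen f ≤ core G V ∧
      ∀ z ∈ G.U.basicOpen f, z ∈ T → z ∈ core G (G.U.basicOpen f) by
    obtain ⟨f, hOf, hfV, hfT⟩ := hgood
    refine ⟨core G (G.U.basicOpen f), isAffineOpen_core G hV f (fun r hr => ?_) F
      (fun z hz hzF => hfT z hz (hTF z hzF)), (mem_core G).2 fun z hz => hOf hz, core_invariant' G _⟩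
    exact core_le' G V ((SetLike.ext_iff.1 (core_invariant' G V) r).1 (hfV hr))
  have hOcore : ∀ (O : G.U.Opens), Orb ⊆ O → Orb ⊆ core G O := fun O hO y hy =>
    (mem_core G).2 fun z hz => hO (hOsat hy hz)
  by_cases hOT : u ∈ T
  · have hOT' : Orb ⊆ T := fun y hy => hTsat hOT hy
    have hmax : ∀ x ∈ Orb, ∀ y ∈ T, y ⤳ x → y = x := by
      intro x hx y hyT hyx
      by_contra hne
      obtain ⟨r, hr, rfl⟩ := hyT
      obtain ⟨r', hrr', hr'⟩ := G.t.isClosedMap.specializingMap hyx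
      have hx' : G.s r' ∈ Orb := hOsat hx (rel_symm G ⟨r', rfl, hr'⟩)
      haveI : IsNoetherianRing (G.U.presheaf.stalk (G.s r')) := inferInstance
      have he : G.s r = G.s r' := by
        by_contra hne'
        exact hr (hFgen _ trivial fun w _ hw =>
          isGen_of_specializes_ne (hOdim _ hx') (hrr'.map G.s.continuous) hne' w hw)
      exact hne (hr' ▸ congrArg (fun z => G.t z) (eq_of_specializes_of_fibre G hrr' he))
    obtain ⟨FT, hFTgen, hFTflat⟩ := exists_flat_open G T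
    haveI := hFTflat
    obtain ⟨f₁, hO₁, hf₁⟩ := exists_basicOpen_finite hV hOfin hOne
      (core G V ⊓ (FT ⊔ ⟨(T : Set G.U)ᶜ, T.isClosed.isOpen_compl⟩)) hOV
      fun y hy => ⟨hOcore V hOV hy, Or.inl (hFTgen y (hOT' hy) (hmax y hy))⟩
    let V₁ := G.U.basicOpen f₁
    have hV₁ : IsAffineOpen V₁ := hV.basicOpen f₁
    obtain ⟨f₂, hO₂, hf₂⟩ := exists_basicOpen_finite hV hOfin hOne (core G V₁) hOV (hOcore V₁ hO₁)
    let J := Scheme.IdealSheafData.vanishingIdeal T
    let ι := J.subschemeι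
    have hrange : Set.range ι = (T : Set G.U) := by
      rw [J.range_subschemeι, Scheme.IdealSheafData.coe_support_vanishingIdeal]
    let Y : J.subscheme.Opens := ι ⁻¹ᵁ V₁
    haveI : IsAffine Y.toScheme := hV₁.preimage ι
    let j : Y.toScheme ⟶ G.U := Y.ι ≫ ι
    have hjV : ∀ y, j y ∈ V₁ := fun y => y.2
    let pr := pullback.snd G.s j
    haveI : IsFinite pr := MorphismProperty.pullback_snd _ _ inferInstance
    haveI : LocallyOfFinitePresentation pr := MorphismProperty.pullback_snd _ _ inferInstance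
    haveI : Flat pr := by
      have hle : Y ≤ ι ⁻¹ᵁ FT := fun y hy => (hf₁ hy).2.resolve_right fun h => h (hrange.le ⟨y, rfl⟩)
      show Flat (pullback.snd G.s (Y.ι ≫ ι))
      rw [← J.subscheme.homOfLE_ι hle, Category.assoc,
        ← MorphismProperty.cancel_left_of_respectsIso @Flat
          (pullbackLeftPullbackSndIso G.s ((ι ⁻¹ᵁ FT).ι ≫ ι) (J.subscheme.homOfLE hle)).hom,
        pullbackLeftPullbackSndIso_hom_snd]
      exact MorphismProperty.pullback_snd _ _ inferInstance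
    have hsurj : Function.Surjective pr := fun y => by
      obtain ⟨x, -, hx⟩ := Scheme.Pullback.exists_preimage_pullback (f := G.s) (g := j) (G.e (j y)) y
        (by rw [← Scheme.Hom.comp_apply, G.e_s]; rfl)
      exact ⟨x, hx⟩
    let τ := pullback.fst G.s j ≫ G.t
    have hτ : (⊤ : (pullback G.s j).Opens) ≤ τ ⁻¹ᵁ V := fun x _ => by
      have h1 : G.s (pullback.fst G.s j x) ∈ core G V := (hf₁ (show (pullback.fst G.s j ≫ G.s) x ∈ V₁ by
        rw [pullback.condition]
        exact hjV _)).1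
      exact core_le' G V ((SetLike.ext_iff.1 (core_invariant' G V) _).1 h1)
    obtain ⟨N, hN⟩ := Groth.Agent.L24.Quot.exists_nrm_basicOpen pr hsurj (τ.appLE V ⊤ hτ f₂)
    obtain ⟨a, ha⟩ := ι.app_surjective V₁ hV₁ (Y.topIso.hom N)
    have key : ∀ y : Y, j y ∈ G.U.basicOpen a ↔ ∀ z, Rel G (j y) z → z ∈ G.U.basicOpen f₂ := by
      intro y
      have h1 : j y ∈ G.U.basicOpen a ↔ y ∈ Y.toScheme.basicOpen N := by
        rw [Scheme.Opens.mem_basicOpen_toScheme]
        show y.1 ∈ ι ⁻¹ᵁ G.U.basicOpen a ↔ _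
        rw [Scheme.preimage_basicOpen, ha, Scheme.Opens.topIso_hom]
        exact Iff.of_eq (congrArg (fun U => y.1 ∈ U) (J.subscheme.basicOpen_res_eq N _))
      rw [h1, hN]
      constructor
      · rintro h z ⟨r, hr, rfl⟩
        obtain ⟨x, hx1, hx2⟩ := Scheme.Pullback.exists_preimage_pullback (f := G.s) (g := j) r y hr
        have := (h x hx2)
        rw [Scheme.basicOpen_appLE] at this
        rw [← hx1]
        exact this.2
      · intro h x hx
        rw [Scheme.basicOpen_appLE]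
        refine ⟨trivial, h _ ⟨pullback.fst G.s j x, ?_, rfl⟩⟩
        rw [← hx]
        show (pullback.fst G.s j ≫ G.s) x = (pullback.snd G.s j ≫ j) x
        rw [pullback.condition]
    obtain ⟨f, hf⟩ := hV.basicOpen_basicOpen_is_basicOpen f₁ a
    have hmem : ∀ x ∈ T, x ∈ V₁ → (x ∈ G.U.basicOpen f ↔ x ∈ core G (G.U.basicOpen f₂)) := by
      intro x hxT hxV
      obtain ⟨y, rfl⟩ := hrange.ge hxT
      rw [hf, mem_core]
      exact key ⟨y, hxV⟩
    refine ⟨f, fun y hy => ?_, fun y hy => (hf₁ ((G.U.basicOpen_le a) (hf.le hy))).1, fun z hz hzT => ?_⟩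
    · exact (hmem y (hOT' hy) (hO₁ hy)).2 (hOcore _ hO₂ hy)
    · have hz' := (hmem z hzT (G.U.basicOpen_le a (hf.le hz))).1 hz
      refine (mem_core G).2 fun w hw => ?_
      have hw' : w ∈ core G (G.U.basicOpen f₂) :=
        (mem_core G).2 fun v hv => (mem_core G).1 hz' v (rel_trans G hw hv)
      exact (hmem w (hTsat hzT hw) (core_le' G V₁ (hf₂ (core_le' G _ hw')))).2 hw'
  · have hOT' : ∀ y ∈ Orb, y ∉ T := fun y hy hyT => hOT (hTsat hyT (rel_symm G hy))
    obtain ⟨f, hOf, hf⟩ := exists_basicOpen_finite hV hOfin hOne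
      (core G V ⊓ ⟨(T : Set G.U)ᶜ, T.isClosed.isOpen_compl⟩) hOV fun y hy => ⟨hOcore V hOV hy, hOT' y hy⟩
    exact ⟨f, hOf, fun y hy => (hf hy).1, fun z hz hzT => absurd hzT (hf hz).2⟩

end Groth.L24.DimOne
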