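import Groth.Agent.L22.DimOneAmple.Affine
import Mathlib.AlgebraicGeometry.QuasiAffine

/-!
Finitely many points with local rings of dimension at most one lie in an affine open.
-/

set_option autoImplicit false
set_option linter.style.haveILetI false
set_option backward.isDefEq.respectTransparency.types false
set_option backward.isDefEq.respectTransparency false

universe u

open CategoryTheory AlgebraicGeometry TopologicalSpace Opposite

namespace Groth.L24.DimOne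

open Groth.L21.Extend Groth.L22.PicGlue Groth.L22.FinAff Groth.L22.DimOneAmple

variable {X : Scheme.{u}}

/-- An open affine neighbourhood of a point outside an open containing its proper generalisations, punctured by a function. -/
theorem exists_puncture' (U : X.Opens) [QuasiCompact U.ι] (x : X) (hxU : x ∉ U) (O : X.Opens)
    (hxO : x ∈ O) (hgenU : ∀ y, y ⤳ x → y ≠ x → y ∈ U) [IsNoetherianRing (X.presheaf.stalk x)]
    (h : ringKrullDim (X.presheaf.stalk x) ≤ 1) :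
    ∃ (V : X.Opens) (f : Γ(X, V)), IsAffineOpen V ∧ x ∈ V ∧ V ≤ O ∧ X.basicOpen f = V ⊓ U := by
  classical
  obtain ⟨V₀, hV₀, hxV₀, hV₀O⟩ :=
    TopologicalSpace.Opens.isBasis_iff_nbhd.1 X.isBasis_affineOpens hxO
  obtain ⟨hfin, -⟩ := generizations_of_dim_le_one x h
  have hS : (Subtype.val ⁻¹' {y : X | y ⤳ x ∧ y ≠ x} : Set V₀).Finite :=
    hfin.preimage Subtype.val_injective.injOn
  obtain ⟨f, hf, hfS⟩ := Groth.Agent.S7661.result Γ(X, V₀) (hV₀.primeIdealOf ⟨x, hxV₀⟩).asIdeal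
    (hS.toFinset.image fun y => (hV₀.primeIdealOf y).asIdeal)
    (fun p hp => by
      obtain ⟨y, -, rfl⟩ := Finset.mem_image.1 hp
      exact (hV₀.primeIdealOf y).2)
    (fun p hp hle => by
      obtain ⟨⟨y, hyV⟩, hy, rfl⟩ := Finset.mem_image.1 hp
      have hy' : y ⤳ x ∧ y ≠ x := hS.mem_toFinset.1 hy
      have h2 : hV₀.fromSpec (hV₀.primeIdealOf ⟨x, hxV₀⟩) ⤳ hV₀.fromSpec (hV₀.primeIdealOf ⟨y, hyV⟩) :=
        ((PrimeSpectrum.le_iff_specializes _ _).1 hle).map hV₀.fromSpec.continuous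
      rw [hV₀.fromSpec_primeIdealOf, hV₀.fromSpec_primeIdealOf] at h2
      exact hy'.2 (hy'.1.antisymm h2).eq) 0
  have hxf : x ∉ X.basicOpen f :=
    (primeIdealOf_eq_comap hV₀ hxV₀ f).1 (Ideal.Quotient.eq_zero_iff_mem.1 hf)
  have hyf : ∀ y, y ⤳ x → y ≠ x → y ∈ X.basicOpen f := fun y hy hne => by
    have hyV : y ∈ V₀ := hy.mem_open V₀.isOpen hxV₀
    by_contra hn
    exact hfS _ (Finset.mem_image_of_mem _ ((Set.Finite.mem_toFinset (a := (⟨y, hyV⟩ : V₀)) hS).2 ⟨hy, hne⟩))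
      ((primeIdealOf_eq_comap hV₀ hyV f).2 hn)
  obtain ⟨M₁, hxM₁, hM₁V, hM₁⟩ := exists_nhd_basicOpen_le hV₀ f U hxV₀ fun y hy hyf' =>
    hgenU y hy fun he => hxf (he ▸ hyf')
  -- the part of `U` near `x` is quasi-compact
  have hUV : IsCompact ((U ⊓ V₀ : X.Opens) : Set X) := by
    have hc : IsCompact (U.ι ⁻¹' (V₀ : Set X)) :=
      U.ι.isCompact_preimage (U := V₀) hV₀.isCompact
    convert hc.image U.ι.continuous using 1
    rw [Set.image_preimage_eq_inter_range, Scheme.Opens.range_ι, Set.inter_comm]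
    rfl
  have hcov : ((U ⊓ V₀ : X.Opens) : Set X) ⊆
      ⋃ g : {g : Γ(X, V₀) // X.basicOpen g ≤ U}, (X.basicOpen g.1 : Set X) := fun y hy => by
    obtain ⟨g, hg, hyg⟩ := hV₀.exists_basicOpen_le (V := U) ⟨y, hy.1⟩ hy.2
    exact Set.mem_iUnion.2 ⟨⟨g, hg⟩, hyg⟩
  obtain ⟨F, hF⟩ := hUV.elim_finite_subcover (fun g : {g : Γ(X, V₀) // X.basicOpen g ≤ U} => (X.basicOpen g.1 : Set X))
    (fun g => (X.basicOpen g.1).isOpen) hcov
  have hnb : ∀ g : F, ∃ M : X.Opens, x ∈ M ∧ M ⊓ X.basicOpen g.1.1 ≤ X.basicOpen f := fun g => by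
    obtain ⟨M, hxM, -, hM⟩ := exists_nhd_basicOpen_le hV₀ g.1.1 (X.basicOpen f) hxV₀
      fun y hy hyg => hyf y hy fun he => hxU (he ▸ g.1.2 hyg)
    exact ⟨M, hxM, hM⟩
  choose Mg hxMg hMg using hnb
  have hxM : x ∈ (⟨⋂ g, (Mg g : Set X), isOpen_iInter_of_finite fun g => (Mg g).isOpen⟩ : X.Opens) ⊓ M₁ :=
    ⟨Set.mem_iInter.2 hxMg, hxM₁⟩
  obtain ⟨V, hV, hxV, hVM⟩ :=
    TopologicalSpace.Opens.isBasis_iff_nbhd.1 X.isBasis_affineOpens hxM
  have hVV₀ : V ≤ V₀ := fun y hy => hM₁V (hVM hy).2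
  refine ⟨V, X.presheaf.map (homOfLE hVV₀).op f, hV, hxV, hVV₀.trans hV₀O, ?_⟩
  rw [Scheme.basicOpen_res]
  refine le_antisymm (fun y hy => ⟨hy.1, hM₁ ⟨(hVM hy.1).2, hy.2⟩⟩) fun y hy => ⟨hy.1, ?_⟩
  obtain ⟨g, hg, hyg⟩ := Set.mem_iUnion₂.1 (hF ⟨hy.2, hVV₀ hy.1⟩)
  exact hMg ⟨g, hg⟩ ⟨Set.mem_iInter.1 (hVM hy.1).1 ⟨g, hg⟩, hyg⟩


/-- Functions with pure poles at finitely many points and prescribed value `0` or `1` at closed points. -/
theorem exists_poles_local [IsNoetherian X] [X.IsSeparated] {U : X.Opens}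
    (hU : IsAffineOpen U) (Z : Finset X) (hd : ∀ z : Z, ringKrullDim (X.presheaf.stalk z.1) ≤ 1) (P : ∀ z : Z, Punct U z.1) (Q : Finset X) (hQU : ∀ q ∈ Q, q ∈ U)
    (hQz : ∀ q ∈ Q, ∀ z ∈ Z, ¬ q ⤳ z) (a : Γ(X, U)) (ha : a = 0 ∨ a = 1) :
    ∃ g : Γ(X, U), (∀ q ∈ Q, (q ∈ X.basicOpen g ↔ a = 1) ∧ q ∉ X.basicOpen (g - a)) ∧
      ∀ z : Z, ∃ (M : X.Opens) (φ : Γ(X, M)), z.1 ∈ M ∧ M ≤ (P z).V ∧ z.1 ∉ X.basicOpen φ ∧
        rO X (inf_le_left : M ⊓ U ≤ M) φ * rO X inf_le_right g = 1 := by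
  classical
  haveI : ∀ z : Z, Finite (PrimeSpectrum (P z).R) := fun z => prime_finite (hd z) (P z).fz_mem
  haveI : ∀ (z : Z) (p : PrimeSpectrum (P z).R), Finite (branches (X.presheaf.stalk z.1) p) := fun z p =>
    (finite_branches (hd z) (P z).fz_mem p).1.to_subtype
  obtain ⟨g₁, hgI, hg⟩ := exists_poles_alg
    (ι := Σ z : Z, Σ p : PrimeSpectrum (P z).R, branches (X.presheaf.stalk z.1) p)
    (fun i => (P i.1).ψ i.2.1) (fun i => i.2.2.1)
    (fun i => (finite_branches (hd i.1) (P i.1).fz_mem i.2.1).2 _ i.2.2.2)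
    (fun i => (P i.1).exists_notMem hU (hd _) i.2.1 i.2.2.2)
    (Q.attach.inf fun q => (hU.primeIdealOf ⟨q.1, hQU q.1 q.2⟩).asIdeal)
    (fun i => (P i.1).not_le_ker hU Q hQU (fun q hq => hQz q hq _ i.1.2) i.2.1) a ha
  choose n hn φ hφ hφe using fun z : Z => (P z).exists_inv_pow (hd z) g₁ fun p W hW => hg ⟨z, p, W, hW⟩
  have hM : (∏ z : Z, n z) ≠ 0 := Finset.prod_ne_zero_iff.2 fun z _ => (zero_lt_one.trans_le (hn z)).ne'
  refine ⟨g₁ ^ (∏ z : Z, n z), fun q hq => ?_, fun z => ?_⟩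
  · rw [X.basicOpen_pow _ (Nat.pos_of_ne_zero hM)]
    have hmem : g₁ - a ∈ (hU.primeIdealOf ⟨q, hQU q hq⟩).asIdeal :=
      Finset.inf_le (f := fun q => (hU.primeIdealOf ⟨q.1, hQU q.1 q.2⟩).asIdeal) (Q.mem_attach ⟨q, hq⟩) hgI
    refine ⟨⟨fun h => ?_, fun h1 => ?_⟩, (primeIdealOf_eq_comap hU (hQU q hq) _).1 ?_⟩
    · refine ha.resolve_left fun h0 => ?_
      rw [h0, sub_zero] at hmem
      exact (primeIdealOf_eq_comap hU (hQU q hq) g₁).1 hmem h
    · by_contra hn'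
      have h2 := sub_mem ((primeIdealOf_eq_comap hU (hQU q hq) g₁).2 hn') hmem
      rw [sub_sub_cancel, h1] at h2
      exact (hU.primeIdealOf _).2.ne_top ((Ideal.eq_top_iff_one _).2 h2)
    · obtain ⟨w, hw⟩ := sub_dvd_pow_sub_pow g₁ a (∏ z : Z, n z)
      have haM : a ^ (∏ z : Z, n z) = a := by
        rcases ha with rfl | rfl
        · exact zero_pow hM
        · exact one_pow _
      rw [← haM, hw]
      exact Ideal.mul_mem_right _ _ hmem
  · obtain ⟨k, hk⟩ : n z ∣ ∏ z : Z, n z := Finset.dvd_prod_of_mem n (Finset.mem_univ z)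
    have hk0 : k ≠ 0 := fun h => hM (by rw [hk, h, mul_zero])
    obtain ⟨M', φ', h1, h2, h3, h4⟩ := (P z).spread (g₁ ^ (∏ z : Z, n z)) (φ := φ z ^ k)
      (Ideal.pow_mem_of_mem _ (hφ z) _ (Nat.pos_of_ne_zero hk0))
      (by rw [map_pow, map_pow, hk, pow_mul, ← mul_pow, hφe, one_pow])
    exact ⟨M', φ', h1, h2, h3, h4⟩

theorem isGen_of_specializes_ne {x y : X} [IsNoetherianRing (X.presheaf.stalk x)]
    (h : ringKrullDim (X.presheaf.stalk x) ≤ 1) (hy : y ⤳ x) (hne : y ≠ x) : IsGen y := fun z hz => by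
  obtain ⟨-, hinc⟩ := generizations_of_dim_le_one x h
  by_cases hzx : z = x
  · exact ((hzx ▸ hz).antisymm hy).eq.symm ▸ hzx
  · exact hinc z y (hz.trans hy) hzx hy hne hz

theorem exists_nhd_compl_le [NoetherianSpace X] (M : X.Opens) {z : X}
    (hgen : ∀ y, y ⤳ z → y ≠ z → y ∈ M) (Ps : Finset X) (hanti : ∀ q ∈ Ps, q ⤳ z → q = z) :
    ∃ O : X.Opens, z ∈ O ∧ (∀ q ∈ Ps, q ≠ z → q ∉ O) ∧ ∀ y ∈ O, y ∉ M → z ⤳ y := by
  classical
  obtain ⟨S, hS, hScl, hSirr, hSeq⟩ :=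
    NoetherianSpace.exists_finite_set_isClosed_irreducible M.isOpen.isClosed_compl
  let B : Set X := (⋃ T ∈ {T ∈ S | z ∉ T}, T) ∪ ⋃ q ∈ Ps.filter (· ≠ z), closure {q}
  have hB : IsClosed B := ((hS.subset fun T hT => hT.1).isClosed_biUnion fun T hT => hScl T hT.1).union
    ((Ps.filter (· ≠ z)).finite_toSet.isClosed_biUnion fun q _ => isClosed_closure)
  refine ⟨⟨Bᶜ, hB.isOpen_compl⟩, ?_, fun q hq hne h => h (Or.inr (Set.mem_iUnion₂.2
    ⟨q, Finset.mem_filter.2 ⟨hq, hne⟩, subset_closure rfl⟩)), fun y hy hyM => ?_⟩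
  · rintro (h | h)
    · obtain ⟨T, hT, hzT⟩ := Set.mem_iUnion₂.1 h
      exact hT.2 hzT
    · obtain ⟨q, hq, hzq⟩ := Set.mem_iUnion₂.1 h
      rw [Finset.mem_filter] at hq
      exact hq.2 (hanti q hq.1 (specializes_iff_mem_closure.2 hzq))
  · obtain ⟨T, hTS, hyT⟩ := hSeq.le hyM
    have hzT : z ∈ T := by
      by_contra hzT
      exact hy (Or.inl (Set.mem_iUnion₂.2 ⟨T, ⟨hTS, hzT⟩, hyT⟩))
    obtain ⟨g, hg⟩ := QuasiSober.sober (hSirr T hTS) (hScl T hTS)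
    have hgM : g ∉ M := hSeq.ge ⟨T, hTS, hg.mem⟩
    have : g = z := by
      by_contra hne
      exact hgM (hgen g (hg.specializes hzT) hne)
    exact this ▸ hg.specializes hyT

/-- Each of finitely many incomparable points lies in an affine basic open of an open containing all of them. -/
theorem exists_open_basicOpen [IsNoetherian X] [X.IsSeparated] (Ps : Finset X)
    (hdim : ∀ x ∈ Ps, ringKrullDim (X.presheaf.stalk x) ≤ 1) (hanti : ∀ q ∈ Ps, ∀ z ∈ Ps, q ⤳ z → q = z)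
    {z : X} (hz : z ∈ Ps) :
    ∃ (W : X.Opens) (s : Γ(X, W)), (↑Ps ⊆ (W : Set X)) ∧ IsAffineOpen (X.basicOpen s) ∧ z ∈ X.basicOpen s := by
  classical
  obtain ⟨_, ⟨A, hA, rfl⟩, hzA, -⟩ :=
    X.isBasis_affineOpens.exists_subset_of_mem_open (Set.mem_univ z) isOpen_univ
  obtain ⟨M, hM, hAM, hgenM⟩ := exists_affine_gen (show IsAffineOpen A from hA)
  have hproper : ∀ x ∈ Ps, ∀ y, y ⤳ x → y ≠ x → y ∈ M := fun x hx y hy hne =>
    hgenM y (isGen_of_specializes_ne (hdim x hx) hy hne)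
  let Q := Ps.filter (· ∈ M)
  let Z := Ps.filter (· ∉ M)
  have hZ : ∀ x : Z, x.1 ∈ Ps ∧ x.1 ∉ M := fun x => Finset.mem_filter.1 x.2
  choose O hOz hOPs hOM using fun x : Z =>
    exists_nhd_compl_le M (hproper x.1 (hZ x).1) Ps fun q hq => hanti q hq x.1 (hZ x).1
  choose V f hV hxV hVO hVf using fun x : Z =>
    exists_puncture' M x.1 (hZ x).2 (O x) (hOz x) (hproper x.1 (hZ x).1) (hdim x.1 (hZ x).1)
  have hQM : ∀ q ∈ Q, q ∈ M := fun q hq => (Finset.mem_filter.1 hq).2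
  obtain ⟨g, hgQ, hgz⟩ := exists_poles_local hM Z (fun x => hdim x.1 (Finset.mem_filter.1 x.2).1)
    (fun x => ⟨V x, hV x, hxV x, (hZ x).2, f x, hVf x⟩) Q hQM (fun q hq x hx hs => by
      rw [Finset.mem_filter] at hq hx
      exact hx.2 (hanti q hq.1 x hx.1 hs ▸ hq.2)) 1 (Or.inr rfl)
  choose N φ hzN hNV hzφ hφ using hgz
  have hNO : ∀ x : Z, N x ≤ O x := fun x => (hNV x).trans (hVO x)
  have hNM : ∀ x : Z, ∀ y ∈ N x, y ∉ M → y ∉ X.basicOpen (φ x) := fun x y hy hyM h =>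
    hzφ x ((hOM x y (hNO x hy) hyM).mem_open (X.basicOpen (φ x)).isOpen h)
  have hNN : ∀ x x' : Z, x ≠ x' → N x ⊓ N x' ≤ M := fun x x' hne y hy => by
    by_contra hyM
    exact hOPs x' x.1 (hZ x).1 (fun e => hne (Subtype.ext e))
      ((hOM x y (hNO x hy.1) hyM).mem_open (O x').isOpen (hNO x' hy.2))
  obtain ⟨v, hv⟩ : ∃ v : Γ(X, X.basicOpen g), v * rO X (X.basicOpen_le g) g = 1 :=
    (RingedSpace.isUnit_res_basicOpen _ g).exists_left_inv
  let W : X.Opens := X.basicOpen g ⊔ ⨆ x : Z, N x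
  have key : ∀ x : Z, rO X (inf_le_left : X.basicOpen g ⊓ N x ≤ _) v = rO X inf_le_right (φ x) := by
    intro x
    have h1 := congrArg (rO X (inf_le_left : X.basicOpen g ⊓ N x ≤ _)) hv
    have h2 := congrArg (rO X (le_inf inf_le_right (inf_le_left.trans (X.basicOpen_le g)) :
      X.basicOpen g ⊓ N x ≤ N x ⊓ M)) (hφ x)
    simp only [Groth.L22.PicGlue.rO_mul, rO_rO, Groth.L22.PicGlue.rO_one] at h1 h2
    exact left_inv_eq_right_inv h1 ((mul_comm _ _).trans h2)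
  have key' : ∀ x x' : Z, rO X (inf_le_left : N x ⊓ N x' ≤ _) (φ x) = rO X inf_le_right (φ x') := by
    intro x x'
    by_cases hne : x = x'
    · subst hne; rfl
    · have h1 := congrArg (rO X (le_inf inf_le_left (hNN x x' hne) : N x ⊓ N x' ≤ N x ⊓ M)) (hφ x)
      have h2 := congrArg (rO X (le_inf inf_le_right (hNN x x' hne) : N x ⊓ N x' ≤ N x' ⊓ M)) (hφ x')
      simp only [Groth.L22.PicGlue.rO_mul, rO_rO, Groth.L22.PicGlue.rO_one] at h1 h2
      exact left_inv_eq_right_inv h1 ((mul_comm _ _).trans h2)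
  obtain ⟨Φ, hΦ⟩ := exists_glue (Coh.structureModule X)
    (fun o : ULift.{u} (Option Z) => o.down.elim (X.basicOpen g) N) W
    (fun o => by
      rcases o with ⟨_ | x⟩
      · exact le_sup_left
      · exact le_trans (le_iSup N x) le_sup_right)
    (fun y hy => hy.elim (fun h => ⟨⟨none⟩, h⟩) fun h => by
      obtain ⟨x, hx⟩ := Opens.mem_iSup.1 h
      exact ⟨⟨some x⟩, hx⟩)
    (fun o => match o with
      | ⟨none⟩ => v
      | ⟨some x⟩ => φ x)
    (by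
      rintro ⟨_ | x⟩ ⟨_ | x'⟩
      · rfl
      · exact key x'
      · show rO X inf_le_left (φ x) = rO X inf_le_right v
        have := congrArg (rO X (le_inf inf_le_right inf_le_left :
          N x ⊓ X.basicOpen g ≤ X.basicOpen g ⊓ N x)) (key x)
        simp only [rO_rO] at this
        exact this.symm
      · exact key' x x')
  let Φ : Γ(X, W) := Φ
  have hΦv : rO X (le_sup_left : X.basicOpen g ≤ W) Φ = v := hΦ ⟨none⟩
  have hΦφ : ∀ x : Z, rO X (le_trans (le_iSup N x) le_sup_right : N x ≤ W) Φ = φ x := fun x => hΦ ⟨some x⟩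
  have hD : X.basicOpen Φ = X.basicOpen g := by
    refine le_antisymm (fun y hy => ?_) fun y hy => ?_
    · rcases X.basicOpen_le Φ hy with h | h
      · exact h
      · obtain ⟨x, hx⟩ := Opens.mem_iSup.1 h
        have h' : y ∈ X.basicOpen (rO X (le_trans (le_iSup N x) le_sup_right : N x ≤ W) Φ) := by
          rw [Scheme.basicOpen_res]; exact ⟨hx, hy⟩
        rw [hΦφ] at h'
        have hyM : y ∈ M := of_not_not fun hn => hNM x y hx hn h'
        have hu := germ_isUnit_of_mul ((mul_comm _ _).trans (hφ x)) (y := y) ⟨hx, hyM⟩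
        rw [Scheme.basicOpen_res] at hu
        exact hu.2
    · have h := germ_isUnit_of_mul (a := rO X (le_sup_left : X.basicOpen g ≤ W) Φ)
        (b := rO X (X.basicOpen_le g) g) (by rw [hΦv]; exact hv) hy
      rw [Scheme.basicOpen_res] at h
      exact h.2
  have hgmem : ∀ q ∈ Ps, q ∈ M → q ∈ X.basicOpen g := fun q hq hqM =>
    (hgQ q (Finset.mem_filter.2 ⟨hq, hqM⟩)).1.2 rfl
  refine ⟨W, Φ, fun q hq => ?_, hD ▸ hM.basicOpen g, hD ▸ hgmem z hz (hAM hzA)⟩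
  by_cases hqM : q ∈ M
  · exact Or.inl (hgmem q hq hqM)
  · exact Or.inr (Opens.mem_iSup.2 ⟨⟨q, Finset.mem_filter.2 ⟨hq, hqM⟩⟩, hzN _⟩)

/-- Finitely many points with local rings of dimension at most one lie in an affine open. -/
theorem exists_affine_finset [IsNoetherian X] [X.IsSeparated] (Ps : Finset X)
    (hdim : ∀ x ∈ Ps, ringKrullDim (X.presheaf.stalk x) ≤ 1) :
    ∃ U : X.Opens, IsAffineOpen U ∧ ↑Ps ⊆ (U : Set X) := by
  classical
  -- the points without a proper specialisation in the set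
  let P₀ := Ps.filter fun q => ∀ z ∈ Ps, q ⤳ z → q = z
  have hP₀ : ∀ q ∈ Ps, ∃ z ∈ P₀, q ⤳ z := by
    intro q hq
    by_cases h : q ∈ P₀
    · exact ⟨q, h, specializes_rfl⟩
    · obtain ⟨z, hz, hqz, hne⟩ : ∃ z ∈ Ps, q ⤳ z ∧ q ≠ z := by
        by_contra hn
        push Not at hn
        exact h (Finset.mem_filter.2 ⟨hq, hn⟩)
      refine ⟨z, Finset.mem_filter.2 ⟨hz, fun w hw hzw => ?_⟩, hqz⟩
      by_contra hne'
      have hg : IsGen z := isGen_of_specializes_ne (hdim w hw) hzw hne'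
      exact hne (hg q hqz)
  have hP₀dim : ∀ x ∈ P₀, ringKrullDim (X.presheaf.stalk x) ≤ 1 := fun x hx => hdim x (Finset.mem_filter.1 hx).1
  choose W s hW hs hzs using fun z : P₀ => exists_open_basicOpen P₀ hP₀dim
    (fun q hq z hz => (Finset.mem_filter.1 hq).2 z (Finset.mem_filter.1 hz).1) z.2
  let A : X.Opens := ⟨⋂ z : P₀, (W z : Set X), isOpen_iInter_of_finite fun z => (W z).isOpen⟩
  have hAW : ∀ z, A ≤ W z := fun z _ h => Set.mem_iInter.1 h z
  let t : P₀ → Γ(X, A) := fun z => rO X (hAW z) (s z)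
  let B : X.Opens := ⨆ z : P₀, X.basicOpen (t z)
  have ht : ∀ z, X.basicOpen (t z) = A ⊓ X.basicOpen (s z) := fun z => X.basicOpen_res (s z) _
  haveI : CompactSpace B.toScheme := isCompact_iff_compactSpace.mp (NoetherianSpace.isCompact (B : Set X))
  have hqa : B.toScheme.IsQuasiAffine := by
    refine Scheme.IsQuasiAffine.of_forall_exists_mem_basicOpen _ fun x => ?_
    obtain ⟨z, hz⟩ := Opens.mem_iSup.1 x.2
    have hBA : (⊤ : B.toScheme.Opens) ≤ B.ι ⁻¹ᵁ A := fun y _ => by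
      obtain ⟨z', hz'⟩ := Opens.mem_iSup.1 y.2
      exact X.basicOpen_le (t z') hz'
    let r : Γ(B.toScheme, ⊤) := B.toScheme.presheaf.map (homOfLE hBA).op (B.ι.app A (t z))
    have hr : B.toScheme.basicOpen r = B.ι ⁻¹ᵁ X.basicOpen (t z) := by
      rw [Scheme.basicOpen_res, ← Scheme.preimage_basicOpen]
      exact inf_eq_right.2 le_top
    have hle : X.basicOpen (t z) ≤ B := le_iSup (fun z => X.basicOpen (t z)) z
    have hqa' : IsQuasiSeparated ((⊤ : B.toScheme.Opens) : Set B.toScheme) := isQuasiSeparated_univ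
    obtain ⟨a, haz, hxa⟩ := (hs z).exists_basicOpen_le (V := X.basicOpen (t z)) ⟨x.1, hz⟩ ((ht z).le hz).2
    have haa : IsAffineOpen (B.ι ⁻¹ᵁ X.basicOpen a) :=
      ((hs z).basicOpen a).preimage_of_isOpenImmersion B.ι (by rw [Scheme.Opens.opensRange_ι]; exact haz.trans hle)
    obtain ⟨a', ha'⟩ : ∃ a' : Γ(B.toScheme, B.toScheme.basicOpen r), B.toScheme.basicOpen a' = B.ι ⁻¹ᵁ X.basicOpen a := by
      refine ⟨B.toScheme.presheaf.map (eqToHom hr).op
        ((B.ι.app (X.basicOpen (t z))) (rO X ((ht z).le.trans inf_le_right) a)), ?_⟩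
      rw [Scheme.basicOpen_res, hr, ← Scheme.preimage_basicOpen]
      refine Opens.ext (Set.ext fun y => ?_)
      exact ⟨fun h => ((X.basicOpen_res a _).le h.2).2,
        fun h => ⟨haz h, (X.basicOpen_res a _).ge ⟨haz h, h⟩⟩⟩
    obtain ⟨n, b, hb⟩ := exists_eq_pow_mul_of_isCompact_of_isQuasiSeparated B.toScheme ⊤ isCompact_univ hqa' r a'
    have hbr : B.toScheme.basicOpen (b * r) = B.toScheme.basicOpen a' := by
      rw [Scheme.basicOpen_mul, inf_comm]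
      have h1 := congrArg B.toScheme.basicOpen hb
      simp only [TopCat.Presheaf.restrictOpenCommRingCat_apply, Scheme.basicOpen_res, Scheme.basicOpen_mul] at h1
      rw [h1]
      refine inf_eq_right.2 ?_
      rcases Nat.eq_zero_or_pos n with rfl | hn
      · rw [pow_zero, Scheme.basicOpen_of_isUnit _ isUnit_one]
        exact B.toScheme.basicOpen_le a'
      · rw [Scheme.basicOpen_pow _ _ hn]
        exact fun y hy => (B.toScheme.basicOpen_res r _).ge ⟨B.toScheme.basicOpen_le a' hy, B.toScheme.basicOpen_le a' hy⟩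
    exact ⟨b * r, by rw [hbr, ha']; exact ⟨haa, hxa⟩⟩
  have hPB : ∀ q ∈ Ps, q ∈ B := fun q hq => by
    obtain ⟨z, hz, hqz⟩ := hP₀ q hq
    refine hqz.mem_open B.isOpen (Opens.mem_iSup.2 ⟨⟨z, hz⟩, (ht _).ge ⟨?_, hzs _⟩⟩)
    exact Set.mem_iInter.2 fun z' => hW z' hz
  -- prime avoidance in a quasi-affine scheme
  let j := B.toScheme.toSpecΓ
  let T : Set (Spec Γ(B.toScheme, ⊤)) := j '' {x : B | x.1 ∈ Ps}
  have hT : T.Finite := (Ps.finite_toSet.preimage Subtype.val_injective.injOn).image j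
  rcases Ps.eq_empty_or_nonempty with rfl | ⟨q₀, hq₀⟩
  · exact ⟨⊥, isAffineOpen_bot X, by simp⟩
  let C : Set (Spec Γ(B.toScheme, ⊤)) := (Set.range j)ᶜ
  have hC : IsClosed C := j.isOpenEmbedding.isOpen_range.isClosed_compl
  have hns : ¬ ((PrimeSpectrum.vanishingIdeal C : Ideal Γ(B.toScheme, ⊤)) : Set Γ(B.toScheme, ⊤)) ⊆
      ⋃ p ∈ T, (p.asIdeal : Set Γ(B.toScheme, ⊤)) := by
    rw [Ideal.subset_union_prime_finite hT (j ⟨q₀, hPB q₀ hq₀⟩) (j ⟨q₀, hPB q₀ hq₀⟩) fun p _ _ _ => p.isPrime]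
    rintro ⟨p, ⟨x, hx, rfl⟩, hle⟩
    have h : j x ∈ PrimeSpectrum.zeroLocus (PrimeSpectrum.vanishingIdeal C : Set Γ(B.toScheme, ⊤)) := hle
    rw [PrimeSpectrum.zeroLocus_vanishingIdeal_eq_closure, hC.closure_eq] at h
    exact h ⟨x, rfl⟩
  obtain ⟨h, hhC, hhT⟩ := Set.not_subset.1 hns
  have hrange : PrimeSpectrum.basicOpen h ≤ j.opensRange := fun p hp => of_not_not fun hn =>
    hp ((PrimeSpectrum.mem_vanishingIdeal C h).1 hhC p hn)
  refine ⟨B.ι ''ᵁ (j ⁻¹ᵁ PrimeSpectrum.basicOpen h),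
    ((IsAffineOpen.Spec_basicOpen h).preimage_of_isOpenImmersion j hrange).image_of_isOpenImmersion B.ι,
    fun q hq => ⟨⟨q, hPB q hq⟩, fun hmem => hhT (Set.mem_biUnion ⟨⟨q, hPB q hq⟩, hq, rfl⟩ hmem), rfl⟩⟩

end Groth.L24.DimOne
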